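import Mathlib
import Groth.Prelude
import Groth.Agent.Lib.Helper8.Synt.Kos2
import Groth.Agent.Lib.Helper1.RegImmersion

set_option autoImplicit false
set_option linter.style.haveILetI false

universe u

open CategoryTheory AlgebraicGeometry

namespace Groth.Agent.H8.KosImm

open Groth.Agent.H8.KosConcat Groth.Agent.H8.SyntLocal

/-- a closed immersion over `U` restricts to a closed immersion over any smaller open. -/
theorem isClosedImmersion_restrict_of_le {X Y : Scheme.{u}} (j : Y ⟶ X) (U W : X.Opens)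
    (hWU : W ≤ U) (h : IsClosedImmersion (j ∣_ U)) : IsClosedImmersion (j ∣_ W) := by
  have h1 : IsClosedImmersion (j ∣_ U ∣_ (U.ι ⁻¹ᵁ W)) :=
    IsZariskiLocalAtTarget.restrict (P := @IsClosedImmersion) h _
  have h2 : IsClosedImmersion (j ∣_ U.ι ''ᵁ (U.ι ⁻¹ᵁ W)) :=
    (MorphismProperty.arrow_mk_iso_iff @IsClosedImmersion
      (morphismRestrictRestrict j U (U.ι ⁻¹ᵁ W))).mp h1
  have h3 : U.ι ''ᵁ (U.ι ⁻¹ᵁ W) = W := by
    rw [Scheme.Hom.image_preimage_eq_opensRange_inf, Scheme.Opens.opensRange_ι]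
    exact inf_eq_right.mpr hWU
  exact (MorphismProperty.arrow_mk_iso_iff @IsClosedImmersion (morphismRestrictEq j h3)).mp h2

/-- kernel of `j.app` over a basic open of an affine chart where `j` is a closed immersion. -/
theorem ker_app_basicOpen {X Y : Scheme.{u}} (j : Y ⟶ X) (U : X.Opens) (hU : IsAffineOpen U)
    (hcl : IsClosedImmersion (j ∣_ U)) (g : Γ(X, U)) (W : X.Opens) (hW : W = X.basicOpen g)
    (hWU : W ≤ U) :
    RingHom.ker (j.app W).hom =
      (RingHom.ker (j.app U).hom).map (X.presheaf.map (homOfLE hWU).op).hom := by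
  haveI := hcl
  obtain ⟨hV, -⟩ :=
    Groth.Agent.H1.RegImmersion.affine_and_surjective_of_isClosedImmersion_restrict j U hU
  have hpre : j ⁻¹ᵁ W = Y.basicOpen ((j.app U).hom g) := by
    rw [hW]
    exact Scheme.preimage_basicOpen j g
  have hle' : j ⁻¹ᵁ W ≤ j ⁻¹ᵁ U := fun y hy => hWU hy
  letI algS : Algebra Γ(X, U) Γ(X, W) := (X.presheaf.map (homOfLE hWU).op).hom.toAlgebra
  letI algQ : Algebra Γ(Y, j ⁻¹ᵁ U) Γ(Y, j ⁻¹ᵁ W) :=
    (Y.presheaf.map (homOfLE hle').op).hom.toAlgebra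
  haveI locS : IsLocalization.Away g Γ(X, W) :=
    hU.isLocalization_of_eq_basicOpen g (homOfLE hWU) hW
  haveI locQ : IsLocalization.Away ((j.app U).hom g) Γ(Y, j ⁻¹ᵁ W) :=
    hV.isLocalization_of_eq_basicOpen ((j.app U).hom g) (homOfLE hle') hpre
  have hT : Submonoid.map (j.app U).hom (Submonoid.powers g) =
      Submonoid.powers ((j.app U).hom g) := Submonoid.map_powers _ _
  have hkm := IsLocalization.ker_map (S := Γ(X, W)) (M := Submonoid.powers g)
    (T := Submonoid.powers ((j.app U).hom g)) Γ(Y, j ⁻¹ᵁ W) (j.app U).hom hT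
  have heq : (j.app W).hom = (IsLocalization.map (M := Submonoid.powers g)
      (T := Submonoid.powers ((j.app U).hom g)) Γ(Y, j ⁻¹ᵁ W) (j.app U).hom
      (hT.symm ▸ Submonoid.le_comap_map _) : Γ(X, W) →+* Γ(Y, j ⁻¹ᵁ W)) := by
    apply IsLocalization.ringHom_ext (Submonoid.powers g)
    rw [IsLocalization.map_comp]
    ext a
    have hnat := j.naturality (homOfLE hWU).op
    exact congrArg (fun φ => φ.hom a) hnat
  rw [heq, hkm]
  rfl

/-- a Koszul chart restricts to basic opens. -/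
theorem chart_basicOpen {X Y : Scheme.{u}} (j : Y ⟶ X) (U : X.Opens) (hU : IsAffineOpen U)
    (hcl : IsClosedImmersion (j ∣_ U)) (rs : List Γ(X, U))
    (hrs : LCI.IsKoszulRegularSeq Γ(X, U) rs)
    (hker : RingHom.ker (j.app U).hom = Ideal.ofList rs)
    (g : Γ(X, U)) (W : X.Opens) (hW : W = X.basicOpen g) :
    IsAffineOpen W ∧ IsClosedImmersion (j ∣_ W) ∧ ∃ rs' : List Γ(X, W),
      rs'.length = rs.length ∧ LCI.IsKoszulRegularSeq Γ(X, W) rs' ∧
        RingHom.ker (j.app W).hom = Ideal.ofList rs' := by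
  have hWU : W ≤ U := hW ▸ X.basicOpen_le g
  refine ⟨hW ▸ hU.basicOpen g, isClosedImmersion_restrict_of_le j U W hWU hcl,
    rs.map (X.presheaf.map (homOfLE hWU).op).hom, List.length_map _, ?_, ?_⟩
  · letI algS : Algebra Γ(X, U) Γ(X, W) := (X.presheaf.map (homOfLE hWU).op).hom.toAlgebra
    haveI locS : IsLocalization.Away g Γ(X, W) :=
      hU.isLocalization_of_eq_basicOpen g (homOfLE hWU) hW
    haveI : Module.Flat Γ(X, U) Γ(X, W) := IsLocalization.flat _ (Submonoid.powers g)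
    exact Groth.Agent.H4.KosBC.isKoszulRegularSeq_map rs hrs
  · rw [ker_app_basicOpen j U hU hcl g W hW hWU, hker, Ideal.map_ofList]

/-- composition of two Koszul charts over the same affine open. -/
theorem chart_comp {X Y Z : Scheme.{u}} (i : Y ⟶ X) (j : Z ⟶ Y) (W : X.Opens)
    (hW : IsAffineOpen W) (hci : IsClosedImmersion (i ∣_ W))
    (hcj : IsClosedImmersion (j ∣_ i ⁻¹ᵁ W))
    (rs : List Γ(X, W)) (hrs : LCI.IsKoszulRegularSeq Γ(X, W) rs)
    (hkeri : RingHom.ker (i.app W).hom = Ideal.ofList rs)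
    (ts : List Γ(Y, i ⁻¹ᵁ W)) (hts : LCI.IsKoszulRegularSeq Γ(Y, i ⁻¹ᵁ W) ts)
    (hkerj : RingHom.ker (j.app (i ⁻¹ᵁ W)).hom = Ideal.ofList ts) :
    IsClosedImmersion ((j ≫ i) ∣_ W) ∧ ∃ us : List Γ(X, W),
      us.length = ts.length + rs.length ∧ LCI.IsKoszulRegularSeq Γ(X, W) us ∧
        RingHom.ker ((j ≫ i).app W).hom = Ideal.ofList us := by
  haveI := hci
  haveI := hcj
  obtain ⟨hV, hsurj⟩ :=
    Groth.Agent.H1.RegImmersion.affine_and_surjective_of_isClosedImmersion_restrict i W hW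
  refine ⟨?_, ?_⟩
  · rw [morphismRestrict_comp]
    exact @IsClosedImmersion.comp _ _ _ (j ∣_ i ⁻¹ᵁ W) (i ∣_ W) inferInstance inferInstance
  · choose σ hσ using hsurj
    obtain ⟨ts', htsmap⟩ : ∃ ts' : List Γ(X, W), ts'.map (i.app W).hom = ts := by
      refine ⟨ts.map σ, ?_⟩
      rw [List.map_map]
      conv_rhs => rw [← List.map_id ts]
      apply List.map_congr_left
      intro r _
      exact hσ r
    letI alg : Algebra Γ(X, W) Γ(Y, i ⁻¹ᵁ W) := (i.app W).hom.toAlgebra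
    refine ⟨ts' ++ rs, ?_, ?_, ?_⟩
    · rw [List.length_append, ← htsmap, List.length_map]
    · refine isKoszulRegularSeq_append (P := Γ(X, W)) (C := Γ(Y, i ⁻¹ᵁ W)) rs ts' hrs
        (fun b => ⟨σ b, hσ b⟩) hkeri ?_
      rw [show (algebraMap Γ(X, W) Γ(Y, i ⁻¹ᵁ W)) = (i.app W).hom from rfl, htsmap]
      exact hts
    · have hcomap : Ideal.comap (i.app W).hom (Ideal.span {x | x ∈ ts}) =
          Ideal.span {x | x ∈ ts' ++ rs} := by
        rw [← htsmap, ← map_span_mem, Ideal.comap_map_of_surjective (i.app W).hom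
          (fun b => ⟨σ b, hσ b⟩), ← RingHom.ker_eq_comap_bot, hkeri, span_mem_append]
      ext a
      have h1 : ((j ≫ i).app W).hom a = (j.app (i ⁻¹ᵁ W)).hom ((i.app W).hom a) :=
        congrArg (fun φ => φ.hom a) (Scheme.Hom.comp_app j i W)
      have h2 : (j.app (i ⁻¹ᵁ W)).hom ((i.app W).hom a) = 0 ↔
          (i.app W).hom a ∈ Ideal.span {x | x ∈ ts} := by
        rw [← RingHom.mem_ker, hkerj]
      rw [RingHom.mem_ker, h1]
      change _ ↔ a ∈ Ideal.span {x | x ∈ ts' ++ rs}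
      rw [← hcomap, Ideal.mem_comap]
      exact h2

/-- local charts of two composable Koszul-regular immersions compose. -/
theorem exists_chart_comp {X Y Z : Scheme.{u}} (i : Y ⟶ X) (j : Z ⟶ Y) (z : Z)
    (U : X.Opens) (hU : IsAffineOpen U) (hzU : i (j z) ∈ U) (hci : IsClosedImmersion (i ∣_ U))
    (rs : List Γ(X, U)) (hrs : LCI.IsKoszulRegularSeq Γ(X, U) rs)
    (hkeri : RingHom.ker (i.app U).hom = Ideal.ofList rs)
    (V : Y.Opens) (hV : IsAffineOpen V) (hzV : j z ∈ V) (hcj : IsClosedImmersion (j ∣_ V))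
    (ts : List Γ(Y, V)) (hts : LCI.IsKoszulRegularSeq Γ(Y, V) ts)
    (hkerj : RingHom.ker (j.app V).hom = Ideal.ofList ts) :
    ∃ W : X.Opens, IsAffineOpen W ∧ (j ≫ i) z ∈ W ∧ IsClosedImmersion ((j ≫ i) ∣_ W) ∧
      ∃ us : List Γ(X, W), us.length = ts.length + rs.length ∧
        LCI.IsKoszulRegularSeq Γ(X, W) us ∧
          RingHom.ker ((j ≫ i).app W).hom = Ideal.ofList us := by
  haveI := hci
  obtain ⟨hiU, hsurj⟩ :=
    Groth.Agent.H1.RegImmersion.affine_and_surjective_of_isClosedImmersion_restrict i U hU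
  obtain ⟨b, t, hbt, hzb⟩ := exists_basicOpen_le_affine_inter hiU hV (j z) ⟨hzU, hzV⟩
  obtain ⟨g, hg⟩ := hsurj b
  have hpre : i ⁻¹ᵁ X.basicOpen g = Y.basicOpen t := by
    rw [Scheme.preimage_basicOpen i g, ← hbt]
    exact congrArg _ hg
  obtain ⟨hWaff, hciW, rs', hlen, hrs', hkeri'⟩ :=
    chart_basicOpen i U hU hci rs hrs hkeri g (X.basicOpen g) rfl
  obtain ⟨-, hcjW, ts', hlen', hts', hkerj'⟩ :=
    chart_basicOpen j V hV hcj ts hts hkerj t (i ⁻¹ᵁ X.basicOpen g) hpre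
  obtain ⟨hcl, us, hus, hkr, hk⟩ :=
    chart_comp i j (X.basicOpen g) hWaff hciW hcjW rs' hrs' hkeri' ts' hts' hkerj'
  refine ⟨X.basicOpen g, hWaff, ?_, hcl, us, by rw [hus, hlen, hlen'], hkr, hk⟩
  have h1 : j z ∈ i ⁻¹ᵁ X.basicOpen g := by
    rw [hpre, ← hbt]
    exact hzb
  exact h1

theorem koszulRegularImmersion_comp {X Y Z : Scheme.{u}} (i : Y ⟶ X) (j : Z ⟶ Y)
    (hi : RegImm.IsRegularImmersion .koszul i) (hj : RegImm.IsRegularImmersion .koszul j) :
    RegImm.IsRegularImmersion .koszul (j ≫ i) := by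
  obtain ⟨himm, hi⟩ := hi
  obtain ⟨hjmm, hj⟩ := hj
  haveI := himm
  haveI := hjmm
  refine ⟨inferInstance, fun z => ?_⟩
  obtain ⟨U, hzU, hci, rs, hrs, hkeri⟩ := hi (j z)
  obtain ⟨V, hzV, hcj, ts, hts, hkerj⟩ := hj z
  obtain ⟨W, hW, hzW, hcl, us, -, hkr, hk⟩ :=
    exists_chart_comp i j z U.1 U.2 hzU hci rs hrs hkeri V.1 V.2 hzV hcj ts hts hkerj
  exact ⟨⟨W, hW⟩, hzW, hcl, us, hkr, hk⟩

theorem koszulRegularImmersionOfCodim_comp {X Y Z : Scheme.{u}} (n m : ℕ) (i : Y ⟶ X) (j : Z ⟶ Y)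
    (hi : RegImm.IsRegularImmersionOfCodim .koszul n i)
    (hj : RegImm.IsRegularImmersionOfCodim .koszul m j) :
    RegImm.IsRegularImmersionOfCodim .koszul (m + n) (j ≫ i) := by
  obtain ⟨himm, hi⟩ := hi
  obtain ⟨hjmm, hj⟩ := hj
  haveI := himm
  haveI := hjmm
  refine ⟨inferInstance, fun z => ?_⟩
  obtain ⟨U, hzU, hci, rs, hn, hrs, hkeri⟩ := hi (j z)
  obtain ⟨V, hzV, hcj, ts, hm, hts, hkerj⟩ := hj z
  obtain ⟨W, hW, hzW, hcl, us, hlen, hkr, hk⟩ :=
    exists_chart_comp i j z U.1 U.2 hzU hci rs hrs hkeri V.1 V.2 hzV hcj ts hts hkerj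
  exact ⟨⟨W, hW⟩, hzW, hcl, us, by rw [hlen, hn, hm], hkr, hk⟩

end Groth.Agent.H8.KosImm
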