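import Mathlib
import Groth.Prelude
import Groth.Agent.Lib.Helper8.Synt.Kos2
import Groth.Agent.S8905

set_option autoImplicit false
universe u
open CategoryTheory AlgebraicGeometry

namespace Groth.Agent.H8.KosImm

theorem isKoszulAt_of_isRegularImmersion {Z X : Scheme.{u}} (i : Z ⟶ X) (k : RegImm.Kind)
    (hk : k = RegImm.Kind.regular ∨ k = RegImm.Kind.koszul) (hi : RegImm.IsRegularImmersion k i) (z : Z) :
    Synt.IsKoszulAt i z := by
  have hK : RegImm.IsRegularImmersion .koszul i := by
    rcases hk with rfl | rfl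
    · exact (Groth.Agent.S8905.result i).1 hi
    · exact hi
  have : IsImmersion i := hK.1
  have : IsIso (⊤ : Z.Opens).ι := (Z.topIso).isIso_hom
  refine ⟨⊤, X, (⊤ : Z.Opens).ι ≫ i, 𝟙 X, trivial, inferInstance,
    Groth.Agent.H8.SyntLocal.isRegularImmersion_iso_comp .koszul _ i hK, inferInstance, ?_⟩
  rw [Category.comp_id]

end Groth.Agent.H8.KosImm
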